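import Cfsg.Agent.H439.Der.Tools
import Cfsg.Agent.AutOrth.Final
import Cfsg.Agent.FastGrp
import Cfsg.Agent.Prune
set_option linter.all false
prune_inst 0x7f00000000000000000000000000000000000000000000000000000000000000000000000000000000000000000000000000000000000000000000000000000000000000000000000000000000000000003fffffffffdfffffffffffffffffbeffbdffffffff
open scoped Cfsg.Agent.FastGrp

/-!
# S3500-OPM: semisimilitudes and the elements of prime order (helper964)

`P Q = E Q / Z(E Q)`. If `x ∈ P Q` has odd prime order `v` (prime to the characteristic) and an automorphism induced by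
a semisimilitude `(M, σ)` maps `x` to `x ^ j`, then the lift `X` of order `v` satisfies `μ^σ (ζ ^ j) = 0` for every root
`ζ` of the minimal polynomial `μ` of `X`. Hence, if all automorphisms come from semisimilitudes, not all elements of
order `v` are conjugate under automorphisms as soon as `|Aut F| dim V < v - 1`.
-/

set_option autoImplicit false
set_option linter.unusedSectionVars false
set_option linter.unusedVariables false

namespace Cfsg.Agent.H964.Opm

open Cfsg.Agent.LieClassical.OrthCore Cfsg.Agent.LieClassical.OrthTrans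
  Cfsg.Agent.ClassicalGeometry.OrthAut1 Cfsg.Agent.ClassicalGeometry.OrthSemi
  Cfsg.Agent.ClassicalGeometry.OrthSemiForms Cfsg.Agent.H439.Der
open Polynomial Module

section linear

variable {F V : Type*} [Field F] [AddCommGroup V] [Module F V] [FiniteDimensional F V]

/-- an eigenvalue `≠ 1` of an element of order `v` prime to the characteristic -/
theorem exists_root {g : Module.End F V} {v : ℕ} (hv0 : 0 < v) (hg : g ^ v = 1) (h1 : g ≠ 1) (hvF : (v : F) ≠ 0)
    (K : Type*) [Field K] [Algebra F K] [IsAlgClosed K] :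
    ∃ ζ : K, aeval ζ (minpoly F g) = 0 ∧ ζ ^ v = 1 ∧ ζ ≠ 1 := by
  classical
  obtain ⟨Φ, hΦ⟩ : ∃ Φ : F[X], Φ = ∑ i ∈ Finset.range v, (X : F[X]) ^ i := ⟨_, rfl⟩
  have hfac : Φ * (X - 1) = X ^ v - 1 := by rw [hΦ]; exact geom_sum_mul _ _
  have hdvd : minpoly F g ∣ Φ * (X - 1) := by
    rw [hfac]
    apply minpoly.dvd
    simp [hg]
  by_cases hu : IsUnit (EuclideanDomain.gcd (minpoly F g) Φ)
  · exfalso
    apply h1
    have hco : IsCoprime (minpoly F g) Φ := EuclideanDomain.gcd_isUnit_iff.1 hu
    have h2 : minpoly F g ∣ X - 1 := hco.dvd_of_dvd_mul_left hdvd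
    have h3 : aeval g (X - 1 : F[X]) = 0 := by
      obtain ⟨r, hr⟩ := h2
      rw [hr, map_mul, minpoly.aeval, zero_mul]
    simpa [sub_eq_zero] using h3
  · have hne : EuclideanDomain.gcd (minpoly F g) Φ ≠ 0 := by
      intro h
      have h2 := EuclideanDomain.gcd_dvd_left (minpoly F g) Φ
      rw [h, zero_dvd_iff] at h2
      exact minpoly.ne_zero (Algebra.IsIntegral.isIntegral g) h2
    obtain ⟨ζ, hζ⟩ := IsAlgClosed.exists_aeval_eq_zero K (EuclideanDomain.gcd (minpoly F g) Φ) (by
      intro hd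
      exact hu (isUnit_iff_degree_eq_zero.2 hd))
    have ha : aeval ζ (minpoly F g) = 0 := by
      obtain ⟨r, hr⟩ := EuclideanDomain.gcd_dvd_left (minpoly F g) Φ
      rw [hr, map_mul, hζ, zero_mul]
    have hb : aeval ζ Φ = 0 := by
      obtain ⟨r, hr⟩ := EuclideanDomain.gcd_dvd_right (minpoly F g) Φ
      rw [hr, map_mul, hζ, zero_mul]
    have hc : ζ ^ v = 1 := by
      have h2 := congrArg (aeval ζ) hfac
      rw [map_mul, hb, zero_mul] at h2
      have h3 : ζ ^ v - 1 = 0 := by
        rw [h2]; simp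
      exact sub_eq_zero.1 h3
    refine ⟨ζ, ha, hc, ?_⟩
    rintro rfl
    rw [hΦ] at hb
    simp only [map_sum, map_pow, aeval_X, one_pow, Finset.sum_const, Finset.card_range, nsmul_eq_mul, mul_one] at hb
    apply hvF
    have h4 : algebraMap F K (v : F) = 0 := by rw [map_natCast]; exact hb
    exact (map_eq_zero (algebraMap F K)).1 h4

/-- a semilinear map between `g` and `h` transports polynomials -/
theorem semi_aeval {g h : Module.End F V} {M : V → V} {σ : F ≃+* F} (hadd : ∀ u v, M (u + v) = M u + M v)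
    (hsmul : ∀ (a : F) v, M (a • v) = σ a • M v) (hgh : ∀ v, M (g v) = h (M v)) (p : F[X]) (v : V) :
    M (aeval g p v) = aeval h (p.map (σ : F →+* F)) (M v) := by
  have hpow : ∀ (n : ℕ) v, M ((g ^ n) v) = (h ^ n) (M v) := by
    intro n
    induction n with
    | zero => intro v; simp
    | succ n ih => intro v; rw [pow_succ', Module.End.mul_apply, hgh, ih, pow_succ', Module.End.mul_apply]
  induction p using Polynomial.induction_on' with
  | add p q hp hq => rw [map_add, LinearMap.add_apply, hadd, hp, hq, Polynomial.map_add, map_add, LinearMap.add_apply]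
  | monomial n a =>
    rw [Polynomial.map_monomial, aeval_monomial, aeval_monomial, Module.End.mul_apply, Module.End.mul_apply,
      Module.algebraMap_end_apply, Module.algebraMap_end_apply, hsmul, hpow]
    rfl

/-- roots under a semilinear conjugation to a power -/
theorem root_pow {g : Module.End F V} {M : V → V} {σ : F ≃+* F} {j : ℕ} (hadd : ∀ u v, M (u + v) = M u + M v)
    (hsmul : ∀ (a : F) v, M (a • v) = σ a • M v) (hsurj : Function.Surjective M)
    (hgh : ∀ v, M (g v) = (g ^ j) (M v)) {K : Type*} [Field K] [Algebra F K] {ζ : K}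
    (hζ : aeval ζ (minpoly F g) = 0) : aeval (ζ ^ j) ((minpoly F g).map (σ : F →+* F)) = 0 := by
  have h0 : M 0 = 0 := by
    have := hsmul 0 0
    rwa [zero_smul, map_zero, zero_smul] at this
  have h1 : aeval (g ^ j) ((minpoly F g).map (σ : F →+* F)) = 0 := by
    ext v
    obtain ⟨w, rfl⟩ := hsurj v
    rw [← semi_aeval hadd hsmul hgh, minpoly.aeval, LinearMap.zero_apply, h0, LinearMap.zero_apply]
  have h2 : minpoly F g ∣ ((minpoly F g).map (σ : F →+* F)).comp (X ^ j) := by
    apply minpoly.dvd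
    rw [aeval_comp]
    simpa using h1
  obtain ⟨r, hr⟩ := h2
  have h3 := congrArg (aeval ζ) hr
  rw [map_mul, hζ, zero_mul, aeval_comp] at h3
  simpa using h3

end linear

section groups

variable {F V : Type*} [Field F] [AddCommGroup V] [Module F V] {Q : QuadraticForm F V}

theorem center_sq (hG : Good Q) {z : ↥(E Q)} (hz : z ∈ Subgroup.center ↥(E Q)) : z * z = 1 := by
  obtain ⟨c, hc⟩ := center_scalar hG hz
  obtain ⟨x, y, hxy⟩ := hG.exists_hyp
  have hQ : Q (x + y) = 1 := by rw [Q_add, hxy.left, hxy.right, hxy.pair]; ring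
  have hzO := mem_O.1 (E_le_O z.2) (x + y)
  have h1 : c * c = 1 := by
    rw [hc, QuadraticMap.map_smul, hQ, smul_eq_mul, mul_one] at hzO
    exact hzO
  apply Subtype.ext
  ext v
  show (z : V ≃ₗ[F] V) ((z : V ≃ₗ[F] V) v) = v
  rw [hc, hc, smul_smul, h1, one_smul]

/-- the lift of odd order -/
theorem exists_lift (hG : Good Q) {v : ℕ} (hv : Odd v) {x : P Q} (hx : x ^ v = 1) :
    ∃ X : ↥(E Q), (QuotientGroup.mk X : P Q) = x ∧ X ^ v = 1 := by
  obtain ⟨X0, rfl⟩ := QuotientGroup.mk_surjective x
  rw [← QuotientGroup.mk_pow, QuotientGroup.eq_one_iff] at hx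
  have h1 := center_sq hG hx
  obtain ⟨k, hk⟩ := hv
  refine ⟨X0 ^ (v + 1), ?_, ?_⟩
  · rw [QuotientGroup.eq]
    have h2 : (X0 ^ (v + 1))⁻¹ * X0 = (X0 ^ v)⁻¹ := by
      rw [pow_succ', mul_inv_rev, inv_mul_cancel_right]
    rw [h2]
    exact inv_mem hx
  · rw [← pow_mul, mul_comm, pow_mul, hk, show 2 * k + 1 + 1 = 2 * (k + 1) by ring, pow_mul, ← hk, pow_two, h1,
      one_pow]

/-- an automorphism maps the lift to the lift of the power -/
theorem conjE_eq (hG : Good Q) {v : ℕ} (hv : Odd v) {X Y : ↥(E Q)} (hX : X ^ v = 1) (hY : Y ^ v = 1) (M : Gam Q)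
    (h : Psi Q M (QuotientGroup.mk X) = QuotientGroup.mk Y) : conjE Q M X = Y := by
  rw [Psi_mk, QuotientGroup.eq] at h
  have h1 := center_sq hG h
  have hcomm : Commute (conjE Q M X) ((conjE Q M X)⁻¹ * Y) := by
    have := Subgroup.mem_center_iff.1 h (conjE Q M X)
    exact this
  have h2 : Y = conjE Q M X * ((conjE Q M X)⁻¹ * Y) := by group
  have h3 : Y ^ v = (conjE Q M X) ^ v * ((conjE Q M X)⁻¹ * Y) ^ v := by
    conv_lhs => rw [h2]
    exact hcomm.mul_pow v
  rw [hY, ← map_pow, hX, map_one, one_mul] at h3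
  obtain ⟨k, hk⟩ := hv
  rw [hk, pow_succ, pow_mul, pow_two, h1, one_pow, one_mul] at h3
  rw [← h3, mul_one] at h2
  exact h2.symm

/-- the linear map of an element of `E Q` -/
def lin (X : ↥(E Q)) : Module.End F V := ((X : V ≃ₗ[F] V) : V →ₗ[F] V)

theorem lin_apply (X : ↥(E Q)) (v : V) : lin X v = (X : V ≃ₗ[F] V) v := rfl

theorem lin_pow (X : ↥(E Q)) (n : ℕ) : lin (X ^ n) = lin X ^ n := by
  induction n with
  | zero => rw [pow_zero, pow_zero]; rfl
  | succ n ih => rw [pow_succ, pow_succ, ← ih]; rfl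

theorem lin_injective : Function.Injective (lin : ↥(E Q) → Module.End F V) := by
  intro X Y h
  apply Subtype.ext
  ext v
  exact LinearMap.congr_fun h v

variable [FiniteDimensional F V]

/-- **roots** -/
theorem root_of_psi (hG : Good Q) {v : ℕ} (hv : Odd v) {X : ↥(E Q)} (hX : X ^ v = 1) {M : Gam Q} {σ : F ≃+* F} {c : F}
    (hM : IsSS Q σ c M.1) {j : ℕ} (h : Psi Q M (QuotientGroup.mk X) = (QuotientGroup.mk X) ^ j) {K : Type*} [Field K]
    [Algebra F K] {ζ : K} (hζ : aeval ζ (minpoly F (lin X)) = 0) :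
    aeval (ζ ^ j) ((minpoly F (lin X)).map (σ : F →+* F)) = 0 := by
  have h1 : conjE Q M X = X ^ j := conjE_eq hG hv hX (by rw [← pow_mul, mul_comm, pow_mul, hX, one_pow]) M (by
    rw [h, QuotientGroup.mk_pow])
  refine root_pow (M := M.1) hM.add hM.smul M.1.surjective (fun w => ?_) hζ
  rw [← lin_pow, lin_apply, lin_apply, ← h1, coe_conjE, conjLin_apply']

/-- **not all elements of order `v` are conjugate under semisimilitudes** -/
theorem exists_not_conj [Finite F] (hG : Good Q) {v : ℕ} (hv : v.Prime) (hv2 : v ≠ 2) (hvF : (v : F) ≠ 0) {x : P Q}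
    (hx : orderOf x = v) (hlt : Nat.card (F ≃+* F) * finrank F V < v - 1) :
    ∃ j, 0 < j ∧ j < v ∧ ∀ M : Gam Q, Psi Q M x ≠ x ^ j := by
  classical
  have hodd : Odd v := hv.odd_of_ne_two hv2
  obtain ⟨X, rfl, hX⟩ := exists_lift hG hodd (x := x) (by rw [← hx]; exact pow_orderOf_eq_one x)
  by_contra hcon
  push Not at hcon
  have hX1 : lin X ≠ 1 := by
    intro h
    have h1 : X = 1 := lin_injective h
    rw [h1, QuotientGroup.mk_one, orderOf_one] at hx
    exact hv.one_lt.ne hx
  obtain ⟨ζ, hζ, hζv, hζ1⟩ := exists_root hv.pos (g := lin X) (by rw [← lin_pow, hX]; rfl) hX1 hvF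
    (AlgebraicClosure F)
  have hord : orderOf ζ = v := by
    have : Fact v.Prime := ⟨hv⟩
    exact orderOf_eq_prime hζv hζ1
  have : Finite (F ≃+* F) := Finite.of_injective (fun e : F ≃+* F => (e : F → F)) DFunLike.coe_injective
  have := Fintype.ofFinite (F ≃+* F)
  let R : Finset (AlgebraicClosure F) := (Finset.univ : Finset (F ≃+* F)).biUnion fun σ =>
    (((minpoly F (lin X)).map (σ : F →+* F)).aroots (AlgebraicClosure F)).toFinset
  have hR : R.card ≤ Nat.card (F ≃+* F) * finrank F V := by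
    refine (Finset.card_biUnion_le).trans ?_
    refine (Finset.sum_le_card_nsmul _ _ (finrank F V) fun σ _ => ?_).trans ?_
    · refine (Multiset.toFinset_card_le _).trans ?_
      refine (Polynomial.card_roots' _).trans ?_
      refine (Polynomial.natDegree_map_le).trans ?_
      refine (Polynomial.natDegree_map_le).trans ?_
      have h1 := LinearMap.minpoly_dvd_charpoly (lin X)
      have h2 := Polynomial.natDegree_le_of_dvd h1 (LinearMap.charpoly_monic (lin X)).ne_zero
      rwa [LinearMap.charpoly_natDegree] at h2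
    · rw [Finset.card_univ, smul_eq_mul, Nat.card_eq_fintype_card]
  have hinj : (Finset.Icc 1 (v - 1)).card ≤ R.card := by
    refine Finset.card_le_card_of_injOn (fun j => ζ ^ j) ?_ ?_
    · intro j hj
      rw [Finset.mem_coe, Finset.mem_Icc] at hj
      obtain ⟨M, hM⟩ := hcon j (by omega) (by have := hv.pos; omega)
      obtain ⟨σ, c, hσ⟩ := M.2
      rw [Finset.mem_coe, Finset.mem_biUnion]
      refine ⟨σ, Finset.mem_univ _, ?_⟩
      rw [Multiset.mem_toFinset, Polynomial.mem_aroots]
      refine ⟨?_, root_of_psi hG hodd hX hσ hM hζ⟩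
      exact (Polynomial.map_ne_zero_iff σ.injective).2 (minpoly.ne_zero (Algebra.IsIntegral.isIntegral _))
    · intro i hi j hj hij
      rw [Finset.mem_coe, Finset.mem_Icc] at hi hj
      have hvp := hv.pos
      exact pow_injOn_Iio_orderOf (by rw [Set.mem_Iio, hord]; omega) (by rw [Set.mem_Iio, hord]; omega) hij
  rw [Nat.card_Icc] at hinj
  omega

/-- **`¬ SC` when all the automorphisms come from semisimilitudes** -/
theorem not_SC_of_surj [Finite F] (hG : Good Q) (hs : Function.Surjective (Psi Q)) {v : ℕ} (hv : v.Prime) (hv2 : v ≠ 2)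
    (hvF : (v : F) ≠ 0) (hd : v ∣ Nat.card (P Q)) (hlt : Nat.card (F ≃+* F) * finrank F V < v - 1) : ¬ SC (P Q) v := by
  intro h
  have : Finite V := Module.finite_of_finite F
  have : Finite (V ≃ₗ[F] V) := Finite.of_injective (fun e : V ≃ₗ[F] V => (e : V → V)) DFunLike.coe_injective
  have : Finite ↥(E Q) := inferInstance
  have : Finite (P Q) := inferInstance
  have := Fact.mk hv
  obtain ⟨x, hx⟩ := exists_prime_orderOf_dvd_card' v hd
  obtain ⟨j, hj0, hj, hM⟩ := exists_not_conj hG hv hv2 hvF hx hlt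
  have hxj : orderOf (x ^ j) = v := by
    rw [orderOf_pow' _ hj0.ne', hx, Nat.Coprime.gcd_eq_one, Nat.div_one]
    exact (Nat.Prime.coprime_iff_not_dvd hv).2 fun hd => by have := Nat.le_of_dvd hj0 hd; omega
  obtain ⟨φ, hφ⟩ := h x (x ^ j) (by rw [hx]) (by rw [hxj])
  obtain ⟨M, hM'⟩ := hs φ
  exact hM M (by rw [hM']; exact hφ)

end groups

end Cfsg.Agent.H964.Opm
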