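import Cfsg.Agent.H439.Der.Tools
import Cfsg.Agent.H964.Opm.Semi
import Cfsg.Agent.H372.FourList_m3
import Cfsg.Agent.FastGrp
import Cfsg.Agent.Prune
set_option linter.all false
prune_inst 0x7f00000000000000000000000000000000000000000000000000000000000000000000000000000000000000000000000000000000000000000000000000000000000000000000000000000000000000003fffffffffffffffffffffffffffbeffbdffffffff
open scoped Cfsg.Agent.FastGrp

-- part: H964/Opm/Tools
section
/-!
# S3500-OPM: a missing element and its commuting partner (helper964)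

* `two_of_missing`, `twoT_of_missing` : `x` missing, `w` commuting, of coprime order, `w ≠ 1`: `x` and `x * w`.
* `two_of_cyc`, `twoT_of_cyc` : all elements of order `r` of `R` conjugate up to powers, two different classes in `T`.
-/

set_option autoImplicit false

namespace Cfsg.Agent.H964.Opm

open Cfsg.Agent.H439.Der

variable {T : Type*} [Group T] {R : Subgroup T}

/-- `x` is a power of `x * w` -/
theorem exists_pow_eq {x w : T} {r s : ℕ} (hrs : Nat.Coprime r s) (hx : x ^ r = 1) (hw : w ^ s = 1)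
    (hc : Commute x w) : ∃ n, (x * w) ^ n = x := by
  obtain ⟨k, h1, h2⟩ := Nat.chineseRemainder hrs 1 0
  refine ⟨k, ?_⟩
  rw [hc.mul_pow]
  have e1 : x ^ k = x := by
    conv_rhs => rw [← pow_one x]
    exact pow_eq_pow_iff_modEq.2 (h1.of_dvd (orderOf_dvd_of_pow_eq_one hx))
  have e2 : w ^ k = 1 := by
    rw [← pow_zero w]
    exact pow_eq_pow_iff_modEq.2 (h2.of_dvd (orderOf_dvd_of_pow_eq_one hw))
  rw [e1, e2, mul_one]

theorem mul_pow_ne {x w : T} {r s : ℕ} (hrs : Nat.Coprime r s) (hx : x ^ r = 1) (hw : w ^ s = 1)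
    (hw1 : w ≠ 1) (hc : Commute x w) : (x * w) ^ r ≠ 1 := by
  intro h
  rw [hc.mul_pow, hx, one_mul] at h
  apply hw1
  have h1 := orderOf_dvd_of_pow_eq_one h
  have h2 := orderOf_dvd_of_pow_eq_one hw
  exact orderOf_eq_one_iff.1 (Nat.eq_one_of_dvd_coprimes hrs h1 h2)

/-- **a missing element and a commuting element** -/
theorem two_of_missing {x w : T} {r s : ℕ} (hrs : Nat.Coprime r s) (hx : x ^ r = 1) (hw : w ^ s = 1)
    (hw1 : w ≠ 1) (hc : Commute x w) (hm : ∀ φ : T ≃* T, φ x ∉ R) : Two T R := by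
  refine ⟨x, x * w, hm, fun φ hφ => ?_, fun φ hφ => ?_⟩
  · obtain ⟨n, hn⟩ := exists_pow_eq hrs hx hw hc
    apply hm φ
    rw [← hn, map_pow]
    exact R.pow_mem hφ n
  · apply mul_pow_ne hrs hx hw hw1 hc
    rw [← hφ, ← map_pow, hx, map_one]

/-- the version for conjugacy -/
theorem twoT_of_missing {x w : T} {r s : ℕ} (hrs : Nat.Coprime r s) (hx : x ^ r = 1) (hw : w ^ s = 1)
    (hw1 : w ≠ 1) (hc : Commute x w) (hm : ∀ g : T, g * x * g⁻¹ ∉ R) : TwoT T R := by
  refine ⟨x, x * w, hm, fun g hg => ?_, fun g hg => ?_⟩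
  · obtain ⟨n, hn⟩ := exists_pow_eq hrs hx hw hc
    apply hm g
    rw [← hn, ← conj_pow]
    exact R.pow_mem hg n
  · apply mul_pow_ne hrs hx hw hw1 hc
    rw [← hg, conj_pow, hx, mul_one, mul_inv_cancel]

/-- the elements of order `r` of `R` are conjugate up to powers -/
def RPow (R : Subgroup T) (r : ℕ) : Prop :=
  ∀ a b : R, orderOf a = r → orderOf b = r → ∃ (c : R) (j : ℤ), b = c * a ^ j * c⁻¹

theorem RPow.nat {r : ℕ} (hr : 0 < r) (hR : RPow R r) {a b : T} (ha : a ∈ R) (hb : b ∈ R) (hoa : orderOf a = r)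
    (hob : orderOf b = r) : ∃ (c : T) (n : ℕ), b = c * a ^ n * c⁻¹ := by
  obtain ⟨c, j, hc⟩ := hR ⟨a, ha⟩ ⟨b, hb⟩ (by rw [Subgroup.orderOf_mk, hoa]) (by rw [Subgroup.orderOf_mk, hob])
  have hc' : b = (c : T) * a ^ j * (c : T)⁻¹ := congrArg Subtype.val hc
  have hfo : IsOfFinOrder a := by
    rw [← orderOf_pos_iff, hoa]
    exact hr
  have hmem : a ^ j ∈ Subgroup.zpowers a := ⟨j, rfl⟩
  classical
  rw [hfo.mem_zpowers_iff_mem_range_orderOf] at hmem
  obtain ⟨n, -, hn⟩ := Finset.mem_image.1 hmem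
  exact ⟨c, n, by rw [hc', hn]⟩

/-- **two classes of elements of order `r`** -/
theorem two_of_cyc {r s₁ s₂ : ℕ} (hr : 0 < r) {x₁ x₂ w₁ w₂ : T} (h1 : orderOf x₁ = r) (h2 : orderOf x₂ = r)
    (hne : ∀ (φ : T ≃* T) (n : ℕ), φ x₂ ≠ x₁ ^ n)
    (hs₁ : Nat.Coprime r s₁) (hs₂ : Nat.Coprime r s₂) (hw₁ : w₁ ^ s₁ = 1) (hw₂ : w₂ ^ s₂ = 1)
    (hn₁ : w₁ ≠ 1) (hn₂ : w₂ ≠ 1) (hc₁ : Commute x₁ w₁) (hc₂ : Commute x₂ w₂) (hR : RPow R r) : Two T R := by
  by_cases hA : ∀ φ : T ≃* T, φ x₁ ∉ R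
  · exact two_of_missing hs₁ (by rw [← h1]; exact pow_orderOf_eq_one x₁) hw₁ hn₁ hc₁ hA
  by_cases hB : ∀ φ : T ≃* T, φ x₂ ∉ R
  · exact two_of_missing hs₂ (by rw [← h2]; exact pow_orderOf_eq_one x₂) hw₂ hn₂ hc₂ hB
  exfalso
  push Not at hA hB
  obtain ⟨φ₁, hφ₁⟩ := hA
  obtain ⟨φ₂, hφ₂⟩ := hB
  obtain ⟨c, n, hc⟩ := hR.nat hr hφ₁ hφ₂ (by rw [MulEquiv.orderOf_eq, h1]) (by rw [MulEquiv.orderOf_eq, h2])
  apply hne (φ₂.trans ((MulAut.conj c).symm.trans φ₁.symm)) n
  rw [MulEquiv.trans_apply, MulEquiv.trans_apply, hc, ← map_pow]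
  have h3 : (MulAut.conj c).symm (c * φ₁ (x₁ ^ n) * c⁻¹) = φ₁ (x₁ ^ n) := by
    rw [MulEquiv.symm_apply_eq]
    rfl
  rw [h3, MulEquiv.symm_apply_apply]

/-- the version for conjugacy -/
theorem twoT_of_cyc {r s₁ s₂ : ℕ} (hr : 0 < r) {x₁ x₂ w₁ w₂ : T} (h1 : orderOf x₁ = r) (h2 : orderOf x₂ = r)
    (hne : ∀ (g : T) (n : ℕ), g * x₂ * g⁻¹ ≠ x₁ ^ n)
    (hs₁ : Nat.Coprime r s₁) (hs₂ : Nat.Coprime r s₂) (hw₁ : w₁ ^ s₁ = 1) (hw₂ : w₂ ^ s₂ = 1)
    (hn₁ : w₁ ≠ 1) (hn₂ : w₂ ≠ 1) (hc₁ : Commute x₁ w₁) (hc₂ : Commute x₂ w₂) (hR : RPow R r) : TwoT T R := by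
  by_cases hA : ∀ g : T, g * x₁ * g⁻¹ ∉ R
  · exact twoT_of_missing hs₁ (by rw [← h1]; exact pow_orderOf_eq_one x₁) hw₁ hn₁ hc₁ hA
  by_cases hB : ∀ g : T, g * x₂ * g⁻¹ ∉ R
  · exact twoT_of_missing hs₂ (by rw [← h2]; exact pow_orderOf_eq_one x₂) hw₂ hn₂ hc₂ hB
  exfalso
  push Not at hA hB
  obtain ⟨g₁, hg₁⟩ := hA
  obtain ⟨g₂, hg₂⟩ := hB
  obtain ⟨c, n, hc⟩ := hR.nat hr hg₁ hg₂ (by rw [orderOf_conj, h1]) (by rw [orderOf_conj, h2])
  apply hne (g₁⁻¹ * c⁻¹ * g₂) n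
  have h3 : x₂ = g₂⁻¹ * (c * (g₁ * x₁ * g₁⁻¹) ^ n * c⁻¹) * g₂ := by
    rw [← hc]
    group
  rw [h3, conj_pow]
  group

end Cfsg.Agent.H964.Opm
end

-- part: H964/Opm/Sieg
section
/-!
# S3500-OPM: Siegel elements commuting with an isometry (helper964)

`exists_siegel` : if `T ∈ O Q` fixes a subspace of dimension at least 3 pointwise, it commutes with an element of order
`p` (the characteristic) of `E Q`, not in the centre.
-/

set_option autoImplicit false
set_option linter.unusedSectionVars false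

namespace Cfsg.Agent.H964.Opm

open Cfsg.Agent.LieClassical.OrthCore Cfsg.Agent.LieClassical.OrthTrans Cfsg.Agent.LieClassical.OrthFinite
  Cfsg.Agent.ClassicalGeometry.OrthAut1 Cfsg.Agent.ClassicalGeometry.OrthSemi
  Cfsg.Agent.ClassicalGeometry.OrthSemiForms Cfsg.Agent.H439.Der
open Module QuadraticMap

variable {F V : Type*} [Field F] [AddCommGroup V] [Module F V] {Q : QuadraticForm F V}

theorem siegel_pow {u w : V} (hu : Q u = 0) (hw : polar Q u w = 0) (n : ℕ) (hn : polar Q u (n • w) = 0) :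
    siegel Q u w hu hw ^ n = siegel Q u (n • w) hu hn := by
  induction n with
  | zero =>
    rw [pow_zero]
    ext v
    rw [siegel_apply, zero_smul]
    show v = _
    simp [QuadraticMap.map_zero]
  | succ n ih =>
    have h1 : polar Q u (n • w) = 0 := by
      rw [← Nat.cast_smul_eq_nsmul F, polar_smul_right, hw, smul_zero]
    have h2 : polar Q u (n • w + w) = 0 := by rw [polar_add_right, h1, hw, add_zero]
    rw [pow_succ, ih h1, siegel_mul hu h1 hw h2]
    congr 1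
    rw [add_smul, one_smul]

theorem siegel_ne_one (hQ : Nondeg Q) {u w : V} (hu : Q u = 0) (hw : polar Q u w = 0) (hu0 : u ≠ 0)
    (hwu : w ∉ Submodule.span F {u}) : siegel Q u w hu hw ≠ 1 := by
  intro h
  obtain ⟨v, hv⟩ := hQ.exists_polar_eq hu0 1
  have h1 : siegel Q u w hu hw v = v := by rw [h]; rfl
  rw [siegel_apply, hv, one_smul, mul_one] at h1
  apply hwu
  rw [Submodule.mem_span_singleton]
  refine ⟨polar Q w v + Q w, ?_⟩
  rw [add_smul]
  have h2 : v + w - polar Q w v • u - Q w • u = v := h1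
  have h3 : w = (polar Q w v • u + Q w • u) + (v + w - polar Q w v • u - Q w • u - v) := by abel
  rw [h2, sub_self, add_zero] at h3
  exact h3.symm

/-- central elements of order the characteristic are trivial -/
theorem eq_one_of_center (hG : Good Q) {p : ℕ} (hp : p.Prime) [CharP F p] {X : ↥(E Q)} (hX : X ^ p = 1)
    (hc : X ∈ Subgroup.center ↥(E Q)) : X = 1 := by
  obtain ⟨c, hc'⟩ := center_scalar hG hc
  have hpow : ∀ n : ℕ, ∀ v : V, ((X ^ n : ↥(E Q)) : V ≃ₗ[F] V) v = c ^ n • v := by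
    intro n
    induction n with
    | zero => intro v; rw [pow_zero, pow_zero, one_smul]; rfl
    | succ n ih =>
      intro v
      rw [pow_succ']
      show (X : V ≃ₗ[F] V) (((X ^ n : ↥(E Q)) : V ≃ₗ[F] V) v) = _
      rw [ih, hc', smul_smul, pow_succ']
  obtain ⟨u, -, -, hu0⟩ : ∃ u v : V, Hyp Q u v ∧ u ≠ 0 := by
    obtain ⟨x, hx0, hx⟩ := hG.sing
    obtain ⟨y, hy⟩ := Cfsg.Agent.LieClassical.OrthTrans.exists_hyp hG.nondeg hx hx0
    exact ⟨x, y, hy, hx0⟩
  have h1 : c ^ p = 1 := by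
    have h2 := hpow p u
    rw [hX] at h2
    have h3 : (c ^ p - 1) • u = 0 := by
      rw [sub_smul, one_smul, ← h2, sub_eq_zero]
      rfl
    rcases smul_eq_zero.1 h3 with h4 | h4
    · exact sub_eq_zero.1 h4
    · exact absurd h4 hu0
  have : Fact p.Prime := ⟨hp⟩
  have h2 : (c - 1) ^ p = 0 := by rw [sub_pow_char, h1, one_pow, sub_self]
  have h3 : c = 1 := sub_eq_zero.1 (pow_eq_zero_iff hp.ne_zero |>.1 h2)
  apply Subtype.ext
  ext v
  rw [hc', h3, one_smul]
  rfl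

variable [FiniteDimensional F V]

/-- **A commuting Siegel element.** -/
theorem exists_siegel [Finite F] (hG : Good Q) {p : ℕ} (hp : p.Prime) [CharP F p] {U : Submodule F V}
    (hU : 3 ≤ finrank F U) :
    ∃ W : ↥(E Q), W ^ p = 1 ∧ W ∉ Subgroup.center ↥(E Q) ∧
      ∀ X : ↥(E Q), (∀ u ∈ U, (X : V ≃ₗ[F] V) u = u) → Commute X W := by
  obtain ⟨u, huU, hu0, hu⟩ := exists_sing_mem (Q := Q) U hU
  -- a second vector
  obtain ⟨w, hwU, hw, hwu⟩ : ∃ w ∈ U, polar Q u w = 0 ∧ w ∉ Submodule.span F {u} := by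
    let f : V →ₗ[F] F := polarBilin Q u
    have h1 : finrank F U ≤ finrank F ↥(U ⊓ LinearMap.ker f) + 1 := by
      have h2 := LinearMap.finrank_range_add_finrank_ker (f.domRestrict U)
      have h3 : finrank F (LinearMap.range (f.domRestrict U)) ≤ 1 := by
        refine le_trans (Submodule.finrank_le _) ?_
        rw [finrank_self]
      have h4 : finrank F (LinearMap.ker (f.domRestrict U)) ≤ finrank F ↥(U ⊓ LinearMap.ker f) := by
        have h5 : (LinearMap.ker (f.domRestrict U)).map U.subtype ≤ U ⊓ LinearMap.ker f := by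
          rintro _ ⟨x, hx, rfl⟩
          exact ⟨x.2, hx⟩
        have h6 := Submodule.finrank_mono h5
        rwa [Submodule.finrank_map_subtype_eq] at h6
      omega
    by_contra hcon
    push Not at hcon
    have h2 : U ⊓ LinearMap.ker f ≤ Submodule.span F {u} := fun w hw => hcon w hw.1 hw.2
    have h3 := Submodule.finrank_mono h2
    have h4 := finrank_span_singleton (K := F) hu0
    omega
  have hE : siegel Q u w hu hw ∈ E Q := siegel_mem_E hu hw
  have hpp : (⟨siegel Q u w hu hw, hE⟩ : ↥(E Q)) ^ p = 1 := by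
    apply Subtype.ext
    show siegel Q u w hu hw ^ p = 1
    have h0 : p • w = 0 := by
      rw [← Nat.cast_smul_eq_nsmul F, CharP.cast_eq_zero, zero_smul]
    rw [siegel_pow hu hw p (by rw [h0, polar_zero_right])]
    ext v
    rw [siegel_apply, h0]
    simp
  refine ⟨⟨siegel Q u w hu hw, hE⟩, hpp, fun hc => ?_, fun X hX => ?_⟩
  · have h1 := eq_one_of_center hG hp hpp hc
    exact siegel_ne_one hG.nondeg hu hw hu0 hwu (congrArg Subtype.val h1)
  · have h1 : (X : V ≃ₗ[F] V) * siegel Q u w hu hw * (X : V ≃ₗ[F] V)⁻¹ = siegel Q u w hu hw := by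
      have h2 := siegel_conj (E_le_O X.2) hu hw (by rw [hX u huU]; exact hu) (by rw [hX u huU, hX w hwU]; exact hw)
      rw [h2]
      congr 1
      · exact hX u huU
      · exact hX w hwU
    apply Subtype.ext
    show (X : V ≃ₗ[F] V) * siegel Q u w hu hw = siegel Q u w hu hw * (X : V ≃ₗ[F] V)
    rwa [mul_inv_eq_iff_eq_mul] at h1

end Cfsg.Agent.H964.Opm
end

-- part: H964/Opm/Levi
section
/-!
# S3500-OPM: the Levi subgroup `SL_m` of `Ω⁺_{2m}` and the norm one group of the field of degree `m` (helper964)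
-/

set_option autoImplicit false
set_option linter.unusedSectionVars false

namespace Cfsg.Agent.H964.Opm

open Cfsg.Agent.LieClassical.OrthCore Cfsg.Agent.LieClassical.OrthTrans Cfsg.Agent.LieClassical.OrthFinite
  Cfsg.Agent.LieClassical.OrthForms
  Cfsg.Agent.ClassicalGeometry.OrthAut1 Cfsg.Agent.ClassicalGeometry.OrthSemi
  Cfsg.Agent.ClassicalGeometry.OrthSemiForms Cfsg.Agent.H439.Der Cfsg.Agent.H372
open Module QuadraticMap Matrix

section levi

variable {F : Type*} [Field F] {m : ℕ}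

/-- the Levi elements as linear automorphisms -/
noncomputable def leviLin (m : ℕ) : SpecialLinearGroup (Fin m) F →* ((Fin m ⊕ Fin m → F) ≃ₗ[F] (Fin m ⊕ Fin m → F)) :=
  (glEquiv (Fin m ⊕ Fin m) F).toMonoidHom.comp ((leviGL m).comp SpecialLinearGroup.toGL)

theorem leviLin_apply (A : SpecialLinearGroup (Fin m) F) (v : Fin m ⊕ Fin m → F) :
    leviLin m A v = Sum.elim (A.1 *ᵥ (v ∘ Sum.inl)) ((A⁻¹).1ᵀ *ᵥ (v ∘ Sum.inr)) := by
  have h1 : leviLin m A v = fromBlocks A.1 0 0 (A⁻¹).1ᵀ *ᵥ v := by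
    have h2 : (((SpecialLinearGroup.toGL A)⁻¹ : GL (Fin m) F) : Matrix (Fin m) (Fin m) F) = (A⁻¹).1 := by
      rw [← map_inv]
      rfl
    show ((leviGL m (SpecialLinearGroup.toGL A) : GL (Fin m ⊕ Fin m) F) : Matrix (Fin m ⊕ Fin m) (Fin m ⊕ Fin m) F) *ᵥ v = _
    rw [coe_leviGL, h2]
    rfl
  rw [h1, fromBlocks_mulVec]
  simp only [zero_mulVec, add_zero, zero_add]

theorem leviLin_mem_O (A : SpecialLinearGroup (Fin m) F) : leviLin m A ∈ O (plusForm m F) := by
  intro v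
  have h := mem_isometryGroup_iff.1 (leviGL_mem m (SpecialLinearGroup.toGL A)) v
  rw [← coe_plusForm] at h
  exact h

theorem leviLin_mem_E [Finite F] (hm : 3 ≤ m) (A : SpecialLinearGroup (Fin m) F) :
    leviLin m A ∈ E (plusForm m F) := by
  have := Fintype.ofFinite F
  rw [← (good_plus (F := F) hm).commutator_eq_E]
  have h1 : A ∈ commutator (SpecialLinearGroup (Fin m) F) := by rw [sl_perfect hm]; trivial
  have h2 : leviLin m A ∈ (commutator (SpecialLinearGroup (Fin m) F)).map (leviLin m) := ⟨A, h1, rfl⟩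
  rw [commutator_def, Subgroup.map_commutator] at h2
  refine Subgroup.commutator_mono ?_ ?_ h2
  all_goals
    rintro _ ⟨B, -, rfl⟩
    exact leviLin_mem_O B

/-- the Levi subgroup -/
noncomputable def leviE [Finite F] (hm : 3 ≤ m) : SpecialLinearGroup (Fin m) F →* ↥(E (plusForm m F)) :=
  (leviLin m).codRestrict _ (leviLin_mem_E hm)

theorem leviE_apply [Finite F] (hm : 3 ≤ m) (A : SpecialLinearGroup (Fin m) F) (v : Fin m ⊕ Fin m → F) :
    (leviE hm A : (Fin m ⊕ Fin m → F) ≃ₗ[F] (Fin m ⊕ Fin m → F)) v =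
      Sum.elim (A.1 *ᵥ (v ∘ Sum.inl)) ((A⁻¹).1ᵀ *ᵥ (v ∘ Sum.inr)) := leviLin_apply A v

theorem leviE_injective [Finite F] (hm : 3 ≤ m) : Function.Injective (leviE (F := F) hm) := by
  intro A B h
  have h1 : leviLin m A = leviLin m B := congrArg Subtype.val h
  have h2 := leviGL_injective m ((glEquiv (Fin m ⊕ Fin m) F).injective h1)
  exact SpecialLinearGroup.toGL_injective h2

/-- the Levi elements without eigenvalue 1 have no fixed vectors -/
theorem leviE_fix [Finite F] (hm : 3 ≤ m) {A : SpecialLinearGroup (Fin m) F} {B : Matrix (Fin m) (Fin m) F}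
    (hB : B * (A.1 - 1) = 1) {v : Fin m ⊕ Fin m → F}
    (hv : (leviE hm A : (Fin m ⊕ Fin m → F) ≃ₗ[F] (Fin m ⊕ Fin m → F)) v = v) : v = 0 := by
  rw [leviE_apply] at hv
  have h1 : A.1 *ᵥ (v ∘ Sum.inl) = v ∘ Sum.inl := by
    conv_rhs => rw [← hv]
    rw [Sum.elim_comp_inl]
  have h2 : (A⁻¹).1ᵀ *ᵥ (v ∘ Sum.inr) = v ∘ Sum.inr := by
    conv_rhs => rw [← hv]
    rw [Sum.elim_comp_inr]
  have h3 : A.1ᵀ *ᵥ (v ∘ Sum.inr) = v ∘ Sum.inr := by
    conv_lhs => rw [← h2]
    rw [mulVec_mulVec, ← transpose_mul]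
    have : (A⁻¹).1 * A.1 = 1 := congrArg Subtype.val (inv_mul_cancel A)
    rw [this, transpose_one, one_mulVec]
  have e1 : v ∘ Sum.inl = 0 := by
    have h4 : (B * (A.1 - 1)) *ᵥ (v ∘ Sum.inl) = 0 := by
      rw [← mulVec_mulVec, sub_mulVec, h1, one_mulVec, sub_self, mulVec_zero]
    rwa [hB, one_mulVec] at h4
  have e2 : v ∘ Sum.inr = 0 := by
    have hB' : Bᵀ * (A.1 - 1)ᵀ = 1 := by
      have h5 : (A.1 - 1) * B = 1 := mul_eq_one_comm.1 hB
      rw [← transpose_mul, h5, transpose_one]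
    have h4 : (Bᵀ * (A.1 - 1)ᵀ) *ᵥ (v ∘ Sum.inr) = 0 := by
      rw [← mulVec_mulVec, transpose_sub, transpose_one, sub_mulVec, h3, one_mulVec, sub_self, mulVec_zero]
    rwa [hB', one_mulVec] at h4
  funext i
  rcases i with i | i
  · exact congrFun e1 i
  · exact congrFun e2 i

end levi

section normone

variable {F : Type*} [Field F] {m : ℕ} {L : Type*} [Field L] [Algebra F L]

/-- the norm one group in `SL_m` -/
noncomputable def slHom (b : Basis (Fin m) F L) :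
    ↥(Units.map (Algebra.norm F : L →* F)).ker →* SpecialLinearGroup (Fin m) F where
  toFun ζ := ⟨Algebra.leftMulMatrix b ((ζ : Lˣ) : L), by
    have h1 : Algebra.norm F ((ζ : Lˣ) : L) = 1 := congrArg Units.val (MonoidHom.mem_ker.1 ζ.2)
    rw [← Algebra.norm_eq_matrix_det, h1]⟩
  map_one' := by
    apply Subtype.ext
    show Algebra.leftMulMatrix b (1 : L) = 1
    rw [map_one]
  map_mul' x y := by
    apply Subtype.ext
    show Algebra.leftMulMatrix b (((x : Lˣ) : L) * ((y : Lˣ) : L)) = _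
    rw [map_mul]
    rfl

theorem slHom_injective (b : Basis (Fin m) F L) : Function.Injective (slHom b) := by
  intro x y h
  have h1 : Algebra.leftMulMatrix b ((x : Lˣ) : L) = Algebra.leftMulMatrix b ((y : Lˣ) : L) := congrArg Subtype.val h
  exact Subtype.ext (Units.ext (Algebra.leftMulMatrix_injective b h1))

theorem slHom_inv (b : Basis (Fin m) F L) {ζ : ↥(Units.map (Algebra.norm F : L →* F)).ker} (hζ : ζ ≠ 1) :
    ∃ B : Matrix (Fin m) (Fin m) F, B * ((slHom b ζ).1 - 1) = 1 := by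
  have h0 : ((ζ : Lˣ) : L) - 1 ≠ 0 := by
    intro h
    apply hζ
    exact Subtype.ext (Units.ext (sub_eq_zero.1 h))
  refine ⟨Algebra.leftMulMatrix b (((ζ : Lˣ) : L) - 1)⁻¹, ?_⟩
  have h1 : (slHom b ζ).1 - 1 = Algebra.leftMulMatrix b (((ζ : Lˣ) : L) - 1) := by
    rw [map_sub, map_one]
    rfl
  rw [h1, ← map_mul, inv_mul_cancel₀ h0, map_one]

/-- elements of norm one of a given order -/
theorem exists_norm_one [Finite F] [Finite L] {N : ℕ} (hN : 0 < N)
    (h : N ∣ (Nat.card L - 1) / (Nat.card F - 1)) (hd : (Nat.card F - 1) ∣ (Nat.card L - 1)) :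
    ∃ ζ : ↥(Units.map (Algebra.norm F : L →* F)).ker, orderOf ζ = N := by
  obtain ⟨g, hg⟩ := IsCyclic.exists_generator (α := Lˣ)
  have ho : orderOf g = Nat.card L - 1 := by
    rw [orderOf_eq_card_of_forall_mem_zpowers hg, Nat.card_units]
  have hL : 0 < Nat.card L - 1 := by
    have : 1 < Nat.card L := Finite.one_lt_card
    omega
  have hNd : N ∣ Nat.card L - 1 := h.trans (Nat.div_dvd_of_dvd hd)
  have h1 : orderOf (g ^ ((Nat.card L - 1) / N)) = N := by
    rw [orderOf_pow_of_dvd (Nat.div_pos (Nat.le_of_dvd hL hNd) hN).ne' (by rw [ho]; exact Nat.div_dvd_of_dvd hNd), ho,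
      Nat.div_div_self hNd hL.ne']
  have h2 : g ^ ((Nat.card L - 1) / N) ∈ (Units.map (Algebra.norm F : L →* F)).ker := by
    rw [MonoidHom.mem_ker]
    apply Units.ext
    show Algebra.norm F ((g ^ ((Nat.card L - 1) / N) : Lˣ) : L) = 1
    apply (algebraMap F L).injective
    rw [FiniteField.algebraMap_norm_eq_pow, map_one]
    have h3 : (g ^ ((Nat.card L - 1) / N)) ^ ((Nat.card L - 1) / (Nat.card F - 1)) = 1 := by
      rw [← orderOf_dvd_iff_pow_eq_one, h1]
      exact h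
    exact congrArg Units.val h3
  exact ⟨⟨_, h2⟩, by rw [Subgroup.orderOf_mk, h1]⟩

end normone

end Cfsg.Agent.H964.Opm
end

-- part: H964/Opm/Lv
section
/-!
# S3500-OPM: the torus of order `q ^ m - 1` of `Ω⁺_{2m}(q)` and semisimilitudes (helper964)

* `sq_mem_E` : squares of isometries are in `E Q`
* `lv b : Lˣ →* (V ≃ₗ[F] V)`, `|L : F| = m`
* `lv_conj` : if a semisimilitude conjugates `lv ζ₁` to `lv ζ₂`, then `ζ₂ = ζ₁ ^ (± p ^ t)`
-/

set_option autoImplicit false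
set_option linter.unusedSectionVars false

namespace Cfsg.Agent.H964.Opm

open Cfsg.Agent.LieClassical.OrthCore Cfsg.Agent.LieClassical.OrthTrans Cfsg.Agent.LieClassical.OrthFinite
  Cfsg.Agent.LieClassical.OrthForms
  Cfsg.Agent.ClassicalGeometry.OrthAut1 Cfsg.Agent.ClassicalGeometry.OrthSemi
  Cfsg.Agent.ClassicalGeometry.OrthSemiForms Cfsg.Agent.H439.Der Cfsg.Agent.H372
open Module QuadraticMap Matrix Polynomial

section sq

variable {F V : Type*} [Field F] [AddCommGroup V] [Module F V] [FiniteDimensional F V] {Q : QuadraticForm F V}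

/-- squares of isometries are in `E Q` -/
theorem sq_mem_E (hG : Good Q) {T : V ≃ₗ[F] V} (hT : T ∈ O Q) : T * T ∈ E Q := by
  have hcomm : ∀ a b : V ≃ₗ[F] V, a ∈ O Q → b ∈ O Q → a * b * a⁻¹ * b⁻¹ ∈ E Q := by
    intro a b ha hb
    rw [← hG.commutator_eq_E]
    exact Subgroup.commutator_mem_commutator ha hb
  have hnorm : ∀ g h : V ≃ₗ[F] V, g ∈ O Q → h ∈ E Q → g * h * g⁻¹ ∈ E Q := fun g h hg hh => conj_mem_E hg hh
  rw [O_eq_closure hG.nondeg] at hT
  have key : ∀ x (_ : x ∈ Subgroup.closure (reflSet Q ∪ siegelSet Q)), x ∈ O Q ∧ x * x ∈ E Q := by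
    intro x hx
    induction hx using Subgroup.closure_induction with
    | mem x hx =>
      rcases hx with ⟨v, hv, rfl⟩ | hx
      · exact ⟨refl_mem_O hv, by rw [refl_mul_self]; exact (E Q).one_mem⟩
      · have h1 : x ∈ E Q := Subgroup.subset_closure hx
        exact ⟨E_le_O h1, (E Q).mul_mem h1 h1⟩
    | one => exact ⟨(O Q).one_mem, by rw [mul_one]; exact (E Q).one_mem⟩
    | mul x y _ _ hx hy =>
      refine ⟨(O Q).mul_mem hx.1 hy.1, ?_⟩
      have h1 : x * y * (x * y) = (x * x) * (x⁻¹ * (y * x * y⁻¹ * x⁻¹) * x) * (y * y) := by group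
      rw [h1]
      refine (E Q).mul_mem ((E Q).mul_mem hx.2 ?_) hy.2
      have h2 := hnorm x⁻¹ _ ((O Q).inv_mem hx.1) (hcomm y x hy.1 hx.1)
      rwa [inv_inv] at h2
    | inv x _ hx =>
      refine ⟨(O Q).inv_mem hx.1, ?_⟩
      rw [← _root_.mul_inv_rev]
      exact (E Q).inv_mem hx.2
  exact (key T hT).2

end sq

section torus

variable {F : Type*} [Field F] {m : ℕ} {L : Type*} [Field L] [Algebra F L]

/-- the algebra of the torus -/
noncomputable def Dg (b : Basis (Fin m) F L) : L × L →ₐ[F] Module.End F (Fin m ⊕ Fin m → F) where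
  toFun x := Matrix.toLin' (fromBlocks (Algebra.leftMulMatrix b x.1) 0 0 (Algebra.leftMulMatrix b x.2)ᵀ)
  map_one' := by
    rw [Prod.fst_one, Prod.snd_one, map_one, transpose_one, fromBlocks_one, Matrix.toLin'_one]
    rfl
  map_mul' x y := by
    rw [Module.End.mul_eq_comp, ← Matrix.toLin'_mul, fromBlocks_multiply, Prod.fst_mul, Prod.snd_mul, map_mul,
      mul_comm x.2 y.2, map_mul, transpose_mul]
    simp
  map_zero' := by
    rw [Prod.fst_zero, Prod.snd_zero, map_zero, transpose_zero, fromBlocks_zero, map_zero]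
  map_add' x y := by
    rw [← map_add, fromBlocks_add, Prod.fst_add, Prod.snd_add, map_add, map_add, transpose_add, add_zero]
  commutes' r := by
    have h1 : (algebraMap F (L × L) r).1 = algebraMap F L r := rfl
    have h2 : (algebraMap F (L × L) r).2 = algebraMap F L r := rfl
    rw [h1, h2, AlgHom.commutes]
    ext v i
    rw [LinearMap.comp_apply, LinearMap.comp_apply, Matrix.toLin'_apply, fromBlocks_mulVec,
      Module.algebraMap_end_apply]
    rcases i with i | i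
    · simp [Matrix.algebraMap_eq_diagonal, Matrix.mulVec_diagonal]
    · simp [Matrix.algebraMap_eq_diagonal, Matrix.mulVec_diagonal]

theorem Dg_apply (b : Basis (Fin m) F L) (x : L × L) (v : Fin m ⊕ Fin m → F) :
    Dg b x v = Sum.elim (Algebra.leftMulMatrix b x.1 *ᵥ (v ∘ Sum.inl))
      ((Algebra.leftMulMatrix b x.2)ᵀ *ᵥ (v ∘ Sum.inr)) := by
  show Matrix.toLin' (fromBlocks (Algebra.leftMulMatrix b x.1) 0 0 (Algebra.leftMulMatrix b x.2)ᵀ) v = _
  rw [Matrix.toLin'_apply, fromBlocks_mulVec]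
  simp only [zero_mulVec, add_zero, zero_add]

theorem Dg_fst_eq_zero (b : Basis (Fin m) F L) {x : L × L} (h : Dg b x = 0) : x.1 = 0 := by
  apply Algebra.leftMulMatrix_injective b
  rw [map_zero]
  have h1 : Matrix.toLin' (fromBlocks (Algebra.leftMulMatrix b x.1) 0 0 (Algebra.leftMulMatrix b x.2)ᵀ) = 0 := h
  have h2 := (Matrix.toLin' (R := F)).injective (h1.trans (map_zero _).symm)
  rw [← fromBlocks_zero] at h2
  exact (fromBlocks_inj.1 h2).1

/-- the torus -/
noncomputable def lv (b : Basis (Fin m) F L) : Lˣ →* ((Fin m ⊕ Fin m → F) ≃ₗ[F] (Fin m ⊕ Fin m → F)) :=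
  (glEquiv (Fin m ⊕ Fin m) F).toMonoidHom.comp ((leviGL m).comp (Units.map (Algebra.leftMulMatrix b : L →* _)))

theorem lv_eq (b : Basis (Fin m) F L) (ζ : Lˣ) :
    (lv b ζ : Module.End F (Fin m ⊕ Fin m → F)) = Dg b ((ζ : L), ((ζ⁻¹ : Lˣ) : L)) := by
  refine LinearMap.ext fun v => ?_
  rw [Dg_apply]
  show ((leviGL m (Units.map (Algebra.leftMulMatrix b : L →* _) ζ) : GL (Fin m ⊕ Fin m) F) :
    Matrix (Fin m ⊕ Fin m) (Fin m ⊕ Fin m) F) *ᵥ v = _
  rw [coe_leviGL, fromBlocks_mulVec, ← map_inv]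
  simp only [zero_mulVec, add_zero, zero_add]
  rfl

theorem lv_apply (b : Basis (Fin m) F L) (ζ : Lˣ) (v : Fin m ⊕ Fin m → F) :
    lv b ζ v = Dg b ((ζ : L), ((ζ⁻¹ : Lˣ) : L)) v := LinearMap.congr_fun (lv_eq b ζ) v

theorem lv_mem_O (b : Basis (Fin m) F L) (ζ : Lˣ) : lv b ζ ∈ O (plusForm m F) := by
  intro v
  have h := mem_isometryGroup_iff.1 (leviGL_mem m (Units.map (Algebra.leftMulMatrix b : L →* _) ζ)) v
  rw [← coe_plusForm] at h
  exact h

theorem lv_injective (b : Basis (Fin m) F L) : Function.Injective (lv b) := by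
  intro x y h
  have h1 : Dg b ((x : L), ((x⁻¹ : Lˣ) : L)) = Dg b ((y : L), ((y⁻¹ : Lˣ) : L)) := by rw [← lv_eq, ← lv_eq, h]
  have h2 : Dg b (((x : L), ((x⁻¹ : Lˣ) : L)) - ((y : L), ((y⁻¹ : Lˣ) : L))) = 0 := by rw [map_sub, h1, sub_self]
  exact Units.ext (sub_eq_zero.1 (Dg_fst_eq_zero b h2))

/-- the roots of the minimal polynomial twisted by a field automorphism -/
theorem root_twist [Finite F] [Finite L] {p : ℕ} [Fact p.Prime] [CharP F p] {f : ℕ} (hF : Nat.card F = p ^ f)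
    (σ : F ≃+* F) {y z : L} (h : aeval z ((minpoly F y).map (σ : F →+* F)) = 0) : ∃ t : ℕ, z = y ^ p ^ t := by
  have : CharP L p := charP_of_injective_algebraMap (algebraMap F L).injective p
  let _ : Algebra (ZMod p) F := ZMod.algebra F p
  -- the automorphism is a power of the Frobenius
  let g : Gal(F/ZMod p) := AlgEquiv.ofRingEquiv (f := σ) fun r => by
    have h1 : (σ : F →+* F).comp (algebraMap (ZMod p) F) = algebraMap (ZMod p) F := Subsingleton.elim _ _
    exact congrArg (fun φ : ZMod p →+* F => φ r) h1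
  obtain ⟨s, hs⟩ := FiniteField.exists_forall_apply_eq_pow (ZMod p) p F g
  have hσ : ∀ a : F, σ a = a ^ p ^ s := by
    intro a
    have h1 := hs a
    rwa [Nat.card_zmod] at h1
  -- the root is a power
  obtain ⟨z', rfl⟩ : ∃ z', iterateFrobenius L p s z' = z :=
    (Finite.injective_iff_surjective.1 (iterateFrobenius L p s).injective) z
  have h2 : aeval (iterateFrobenius L p s z') ((minpoly F y).map (σ : F →+* F)) =
      iterateFrobenius L p s (aeval z' (minpoly F y)) := by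
    rw [aeval_def, aeval_def, eval₂_map, hom_eval₂]
    congr 1
    ext a
    rw [RingHom.comp_apply, RingHom.comp_apply, iterateFrobenius_def]
    show algebraMap F L (σ a) = _
    rw [hσ, map_pow]
  rw [h2, map_eq_zero] at h
  have h3 := isConjRoot_of_aeval_eq_zero (Algebra.IsIntegral.isIntegral y) h
  obtain ⟨τ, hτ⟩ := isConjRoot_iff_exists_algEquiv.1 h3.symm
  obtain ⟨k, hk⟩ := FiniteField.exists_forall_apply_eq_pow F p L τ
  refine ⟨f * k + s, ?_⟩
  rw [iterateFrobenius_def, ← hτ, hk, hF, ← pow_mul, ← pow_mul, ← pow_add]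

/-- **semisimilitudes on the torus** -/
theorem lv_conj [Finite F] [Finite L] {p : ℕ} [Fact p.Prime] [CharP F p] {f : ℕ} (hF : Nat.card F = p ^ f)
    (b : Basis (Fin m) F L) {ζ₁ ζ₂ : Lˣ} {M : Equiv.Perm (Fin m ⊕ Fin m → F)} {σ : F ≃+* F} {c : F}
    (hM : IsSS (plusForm m F) σ c M) (h : ∀ v, M (lv b ζ₁ v) = lv b ζ₂ (M v)) :
    ∃ t : ℕ, ζ₂ = ζ₁ ^ p ^ t ∨ ζ₂ = ζ₁⁻¹ ^ p ^ t := by
  have h1 : aeval (Dg b ((ζ₂ : L), ((ζ₂⁻¹ : Lˣ) : L)))
      ((minpoly F (ζ₁ : L) * minpoly F ((ζ₁⁻¹ : Lˣ) : L)).map (σ : F →+* F)) = 0 := by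
    refine LinearMap.ext fun v => ?_
    obtain ⟨w, rfl⟩ := M.surjective v
    rw [← semi_aeval (g := Dg b ((ζ₁ : L), ((ζ₁⁻¹ : Lˣ) : L))) hM.add hM.smul (fun v => by
      rw [← lv_apply, ← lv_apply]; exact h v)]
    have h2 : aeval (Dg b ((ζ₁ : L), ((ζ₁⁻¹ : Lˣ) : L))) (minpoly F (ζ₁ : L) * minpoly F ((ζ₁⁻¹ : Lˣ) : L)) = 0 := by
      rw [aeval_algHom_apply]
      have h3 : aeval ((ζ₁ : L), ((ζ₁⁻¹ : Lˣ) : L)) (minpoly F (ζ₁ : L) * minpoly F ((ζ₁⁻¹ : Lˣ) : L)) = 0 := by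
        apply Prod.ext
        · have e := aeval_algHom_apply (AlgHom.fst F L L) ((ζ₁ : L), ((ζ₁⁻¹ : Lˣ) : L))
            (minpoly F (ζ₁ : L) * minpoly F ((ζ₁⁻¹ : Lˣ) : L))
          rw [AlgHom.fst_apply, AlgHom.fst_apply] at e
          rw [← e, map_mul, minpoly.aeval, zero_mul]
          rfl
        · have e := aeval_algHom_apply (AlgHom.snd F L L) ((ζ₁ : L), ((ζ₁⁻¹ : Lˣ) : L))
            (minpoly F (ζ₁ : L) * minpoly F ((ζ₁⁻¹ : Lˣ) : L))
          rw [AlgHom.snd_apply, AlgHom.snd_apply] at e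
          rw [← e, map_mul, minpoly.aeval F ((ζ₁⁻¹ : Lˣ) : L), mul_zero]
          rfl
      rw [h3, map_zero]
    rw [h2, LinearMap.zero_apply, LinearMap.zero_apply, hM.map_zero]
  rw [aeval_algHom_apply] at h1
  have h4 := Dg_fst_eq_zero b h1
  have e := aeval_algHom_apply (AlgHom.fst F L L) ((ζ₂ : L), ((ζ₂⁻¹ : Lˣ) : L))
    ((minpoly F (ζ₁ : L) * minpoly F ((ζ₁⁻¹ : Lˣ) : L)).map (σ : F →+* F))
  rw [AlgHom.fst_apply, AlgHom.fst_apply, h4, Polynomial.map_mul, map_mul] at e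
  rcases mul_eq_zero.1 e with e | e
  · obtain ⟨t, ht⟩ := root_twist hF σ e
    exact ⟨t, Or.inl (Units.ext (ht.trans (Units.val_pow_eq_pow_val _ _).symm))⟩
  · obtain ⟨t, ht⟩ := root_twist hF σ e
    exact ⟨t, Or.inr (Units.ext (ht.trans (Units.val_pow_eq_pow_val _ _).symm))⟩

end torus

end Cfsg.Agent.H964.Opm
end
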